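import Cfsg.Agent.FT.O3
import Cfsg.Agent.FT.Herm

/-!
# Two exceptional isomorphisms of Fischer spaces
-/

set_option autoImplicit false

namespace Cfsg.Agent.FT

open Cfsg Cfsg.Agent.TT Subgroup
open Cfsg.Agent.Cl.Orth hiding perp
open Cfsg.Agent.Cl.Uni (stdH stdH_apply)

variable {G : Type*} [Group G] {S : Set G}

instance instDecPm {V : Type*} [AddCommGroup V] [DecidableEq V] (u v : V) : Decidable (pm u v) :=
  inferInstanceAs (Decidable (u = v ∨ u = -v))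

/-- diagonal forms in five variables -/
def dq (e : ZMod 3) : QuadraticForm (ZMod 3) (Fin 5 → ZMod 3) :=
  QuadraticMap.weightedSumSquares (ZMod 3) ![1, 1, 1, 1, e]

/-- explicit formula -/
def db (e : ZMod 3) (u v : Fin 5 → ZMod 3) : ZMod 3 :=
  u 0 * v 0 + u 1 * v 1 + u 2 * v 2 + u 3 * v 3 + e * (u 4 * v 4)

theorem dq_apply (e : ZMod 3) (v : Fin 5 → ZMod 3) : dq e v = db e v v := by
  simp [dq, db, Fin.sum_univ_five]

theorem dq_B (e : ZMod 3) (u v : Fin 5 → ZMod 3) : B (dq e) u v = 2 * db e u v := by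
  have := Q_add (dq e) u v
  simp only [dq_apply, db, Pi.add_apply] at this ⊢
  linear_combination -this

theorem dq_nd {e : ZMod 3} (he : e ≠ 0) : BNondeg (dq e) := fun u hu => by
  ext i
  have := hu (Pi.single i 1)
  fin_cases i <;> simpa [dq_B, db, zmod3_two_ne, he] using this

/-- reading a table -/
def rd (T c : ℕ) : Fin 5 → ZMod 3 := fun i => ((T >>> (2 * (5 * c + i.val)) % 4 : ℕ) : ZMod 3)

abbrev V6 : Type := HV (ZMod 2) 2 (Fin 2 → ZMod 2)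

def b6 (u v : V6) : ZMod 2 := u.1 0 * v.2.1 0 + u.1 1 * v.2.1 1 + v.1 0 * u.2.1 0 + v.1 1 * u.2.1 1 +
  u.2.2 0 * v.2.2 1 + u.2.2 1 * v.2.2 0
def q6 (v : V6) : ZMod 2 := v.1 0 * v.2.1 0 + v.1 1 * v.2.1 1 + v.2.2 0 ^ 2 + v.2.2 0 * v.2.2 1 +
  v.2.2 1 ^ 2
def φ6 (v : V6) : Fin 5 → ZMod 3 := rd 0x25400002500000042614002090021154281a10658140000010000001a54400099001411012149105a4000000550000001221000010022429644905900011145000610a90000060400164000000000000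
  ((v.1 0).val + 2 * (v.1 1).val + 4 * (v.2.1 0).val + 8 * (v.2.1 1).val + 16 * (v.2.2 0).val +
    32 * (v.2.2 1).val)

set_option synthInstance.maxSize 2000 in
theorem φ6_facts : (∀ v, q6 v = 1 → db 2 (φ6 v) (φ6 v) = 1) ∧
    (∀ w, db 2 w w = 1 → ∃ v, q6 v = 1 ∧ pm (φ6 v) w) ∧
    ∀ u, q6 u = 1 → ∀ v, q6 v = 1 → (pm (φ6 u) (φ6 v) → u = v) ∧
      pm (φ6 (u - b6 u v • v)) (φ6 u - (2 * db 2 (φ6 u) (φ6 v)) • φ6 v) := by
  decide +kernel

theorem Emb.o6m {ι : G → V6} (h : Emb S (HS 2 (Q2 1 1)) ι) : KO 3 5 S := by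
  have q : ∀ v, HS 2 (Q2 1 1) v = q6 v := fun v => by
    simp [HS_apply, Q2_apply, q6, dotProduct, add_assoc]
  have b : ∀ u v, B (HS 2 (Q2 1 1)) u v = b6 u v := fun u v => by
    simp [HS_B, Q2_B, b6, dotProduct, add_assoc, show (2 : ZMod 2) = 0 from rfl]
  have q1 : ∀ {x}, x ∈ S → q6 (ι x) = 1 := fun hx => q _ ▸ h.q1 hx
  refine ⟨5, le_rfl, dq 2, fun x => φ6 (ι x), dq_nd (by decide),
    fun hx => dq_apply _ _ ▸ φ6_facts.1 _ (q1 hx), fun w hw => ?_,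
    fun hx hy e => h.inj hx hy (Or.inl ((φ6_facts.2.2 _ (q1 hx) _ (q1 hy)).1 e)), fun hx hy => ?_⟩
  · obtain ⟨v, hv, e⟩ := φ6_facts.2.1 w (dq_apply _ _ ▸ hw)
    obtain ⟨x, hx, r⟩ := h.surj v (q v ▸ hv)
    exact ⟨x, hx, by rwa [pm_two.1 r]⟩
  · simp only [pm_two.1 (h.st hx hy), dq_B, b]
    exact (φ6_facts.2.2 _ (q1 hx) _ (q1 hy)).2

def h4 (u v : Fin 4 → FF) : FF := u 0 * star (v 0) + u 1 * star (v 1) + u 2 * star (v 2) + u 3 * star (v 3)
def c4 (a : FF) : ℕ := a.re.val + 2 * a.im.val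
def φ4 (v : Fin 4 → FF) : Fin 5 → ZMod 3 := rd 0x94625a240055161a1400294a90100000000002a1264591000085664524005452562400000000011945564924001a49500400952616140000000001940000000219000000029400000001a115465040006165498400925155900000469254000000000194010a52a400a265189400a15545840000000002a1625514940010099164005261599000000000011900000001a10000000219000000029404055194009914985400495895440016440264000000000119254011a40098585950005924945400000000019458685550002a40429400896899440000000002a1000000029400000001a10000000219194101540000000002450000000145000000010069129a4400000000010000000002450000000145a45a44a4000000000145000000010000000002454a69169000646a48a4008a591a9000a9229644000000000000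
  (c4 (v 0) + 4 * c4 (v 1) + 16 * c4 (v 2) + 64 * c4 (v 3))

def U4 (i : Fin 45) : Fin 4 → FF := fun k =>
  ⟨((0xfdbd7dedad6ddd9d5d0df9b979e9a969d9995909f5b575e5a565d5955505312111c18141342414c48444d09050 >>> (2 * (4 * i.val + k.val)) % 2 : ℕ) : ZMod 2),
    ((0xfdbd7dedad6ddd9d5d0df9b979e9a969d9995909f5b575e5a565d5955505312111c18141342414c48444d09050 >>> (2 * (4 * i.val + k.val) + 1) % 2 : ℕ) : ZMod 2)⟩

set_option synthInstance.maxSize 2000 in
theorem φ4_facts : (∀ v, h4 v v = 0 → v ≠ 0 → db 1 (φ4 v) (φ4 v) = 1 ∧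
      (∀ a : FF, a ≠ 0 → φ4 (a • v) = φ4 v) ∧ ∃ i, ∃ a : FF, v = a • U4 i) ∧
    (∀ i, h4 (U4 i) (U4 i) = 0 ∧ U4 i ≠ 0) ∧ ∀ w, db 1 w w = 1 → ∃ i, pm (φ4 (U4 i)) w := by
  decide +kernel

theorem φ4_facts' : ∀ i j, (pm (φ4 (U4 i)) (φ4 (U4 j)) → i = j) ∧
      pm (φ4 (U4 i + h4 (U4 i) (U4 j) • U4 j))
        (φ4 (U4 i) - (2 * db 1 (φ4 (U4 i)) (φ4 (U4 j))) • φ4 (U4 j)) := by
  decide +kernel

theorem KU.ko (H : FS S) (h : KU 4 S) : KO 3 5 S := by
  obtain ⟨ι, h⟩ := h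
  have b : ∀ u v, stdH FF 4 u v = h4 u v := fun u v => by simp [stdH_apply, h4, Fin.sum_univ_four]
  have q1 : ∀ {x}, x ∈ S → h4 (ι x) (ι x) = 0 := fun hx => b _ _ ▸ h.iso hx
  have sc : ∀ {v w} {a : FF}, v = a • w → stdH FF 4 v v = 0 → v ≠ 0 → φ4 v = φ4 w := by
    rintro _ w a rfl h1 h2
    have a0 : a ≠ 0 := fun q => h2 (by rw [q, zero_smul])
    rw [Cl.Uni.HForm.smul_left, Cl.Uni.HForm.smul_right, mul_eq_zero, mul_eq_zero, star_eq_zero,
      or_iff_right a0, or_iff_right a0, b] at h1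
    exact (φ4_facts.1 _ h1 fun q => h2 (by rw [q, smul_zero])).2.1 a a0
  have ex : ∀ {x}, x ∈ S → ∃ i, ∃ a : FF, a ≠ 0 ∧ ι x = a • U4 i ∧ φ4 (ι x) = φ4 (U4 i) := fun hx => by
    obtain ⟨i, a, e⟩ := (φ4_facts.1 _ (q1 hx) (h.ne hx)).2.2
    exact ⟨i, a, fun q => h.ne hx (by rw [e, q, zero_smul]), e, sc e (h.iso hx) (h.ne hx)⟩
  refine ⟨5, le_rfl, dq 1, fun x => φ4 (ι x), dq_nd (by decide),
    fun hx => dq_apply _ _ ▸ (φ4_facts.1 _ (q1 hx) (h.ne hx)).1, fun w hw => ?_,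
    fun hx hy e => ?_, fun {x y} hx hy => ?_⟩
  · obtain ⟨i, e⟩ := φ4_facts.2.2 w (dq_apply _ _ ▸ hw)
    have k := φ4_facts.2.1 i
    obtain ⟨x, hx, a, r⟩ := h.surj _ k.2 (b _ _ ▸ k.1)
    exact ⟨x, hx, sc r (b _ _ ▸ k.1) k.2 ▸ e⟩
  · obtain ⟨i, a, a0, e1, e2⟩ := ex hx
    obtain ⟨j, c, c0, e3, e4⟩ := ex hy
    simp only [e2, e4] at e
    exact h.inj (a := a * c⁻¹) hx hy (by
      rw [e1, e3, (φ4_facts' i j).1 e, smul_smul, inv_mul_cancel_right₀ c0])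
  · obtain ⟨a, e⟩ := h.st hx hy
    obtain ⟨i, c, c0, e1, e2⟩ := ex hx
    obtain ⟨j, k, k0, e3, e4⟩ := ex hy
    have : ι (x ▹ y) = (a * c) • (U4 i + h4 (U4 i) (U4 j) • U4 j) := by
      rw [e, e1, e3, Cl.Uni.HForm.smul_left, Cl.Uni.HForm.smul_right, b, smul_smul, mul_smul a,
        smul_add c, smul_smul]
      congr 3
      linear_combination c * h4 (U4 i) (U4 j) * ff4.norm k0
    simp only [dq_B, e2, e4, sc this (h.iso (H.st hx hy)) (h.ne (H.st hx hy))]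
    exact (φ4_facts' i j).2

end Cfsg.Agent.FT
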